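import Groth.Agent.Lib.PointBlowUp32.Embed
import Groth.Agent.Lib.SmoothReg17.Basic
import Groth.Agent.Lib.BlowUpFib6.Basic
import Groth.Agent.Lib.SecDiv18.Peel
import Groth.Agent.Lib.Cyc26.C1Key
import Groth.Agent.Lib.Cyc26.ChernFun

/-! # Blow-up of a closed point: affine model and exceptional divisor -/

set_option autoImplicit false
set_option linter.style.haveILetI false
set_option backward.isDefEq.respectTransparency false
set_option backward.isDefEq.respectTransparency.types false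
set_option maxHeartbeats 1600000

universe u

open CategoryTheory CategoryTheory.Limits AlgebraicGeometry TopologicalSpace

noncomputable section

namespace Groth.Agent.BlowZero26

/-- Generators of the ideal of a closed point, as many as the embedding dimension. -/
theorem exists_chart {X : Scheme.{u}} [IsLocallyNoetherian X] {x : X} (hx : IsClosed ({x} : Set X)) {n : ℕ}
    (hn : (IsLocalRing.maximalIdeal (X.presheaf.stalk x)).spanFinrank = n + 1) :
    ∃ (V : X.affineOpens) (_ : x ∈ V.1) (a : Fin (n + 1) → Γ(X, V.1)),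
      (Scheme.IdealSheafData.vanishingIdeal (⟨{x}, hx⟩ : Closeds X)).ideal V = Ideal.span (Set.range a) := by
  classical
  let C := Scheme.IdealSheafData.vanishingIdeal (⟨{x}, hx⟩ : Closeds X)
  obtain ⟨V0, hV0, hx0, -⟩ := exists_isAffineOpen_mem_and_subset (show x ∈ (⊤ : X.Opens) from trivial)
  haveI : IsNoetherianRing Γ(X, V0) := IsLocallyNoetherian.component_noetherian ⟨V0, hV0⟩
  letI := TopCat.Presheaf.algebra_section_stalk X.presheaf (⟨x, hx0⟩ : V0)
  haveI := hV0.isLocalization_stalk ⟨x, hx0⟩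
  set P := (hV0.primeIdealOf ⟨x, hx0⟩).asIdeal with hP
  have hCP : C.ideal ⟨V0, hV0⟩ = P := by
    have hpre : (hV0.fromSpec ⁻¹' ({x} : Set X)) = {hV0.primeIdealOf ⟨x, hx0⟩} := by
      ext Q
      rw [Set.mem_preimage, Set.mem_singleton_iff, Set.mem_singleton_iff]
      constructor
      · intro h
        exact hV0.fromSpec.isOpenEmbedding.injective (h.trans (hV0.fromSpec_primeIdealOf ⟨x, hx0⟩).symm)
      · rintro rfl
        exact hV0.fromSpec_primeIdealOf ⟨x, hx0⟩
    show (Scheme.IdealSheafData.vanishingIdeal _).ideal _ = _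
    rw [Scheme.IdealSheafData.vanishingIdeal_ideal]
    change PrimeSpectrum.vanishingIdeal (hV0.fromSpec ⁻¹' ({x} : Set X)) = _
    rw [hpre, PrimeSpectrum.vanishingIdeal_singleton]
  have hfg : (IsLocalRing.maximalIdeal (X.presheaf.stalk x)).FG := IsNoetherian.noetherian _
  obtain ⟨g, hg⟩ : ∃ g : Fin (n + 1) → X.presheaf.stalk x,
      Ideal.span (Set.range g) = IsLocalRing.maximalIdeal (X.presheaf.stalk x) := by
    obtain ⟨S, hS, hspan⟩ := Submodule.FG.exists_span_finset_card_eq_spanFinrank hfg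
    refine ⟨fun i => ((S.equivFinOfCardEq (hS.trans hn)).symm i : X.presheaf.stalk x), ?_⟩
    rw [show Set.range (fun i => ((S.equivFinOfCardEq (hS.trans hn)).symm i : X.presheaf.stalk x)) = (S : Set _) from
      Set.ext fun y => ⟨by rintro ⟨i, rfl⟩; exact Subtype.coe_prop _,
        fun hy => ⟨S.equivFinOfCardEq (hS.trans hn) ⟨y, hy⟩, by simp⟩⟩]
    exact hspan
  have hsurj := fun i => IsLocalization.exists_mk'_eq P.primeCompl (g i)
  choose a s hgs using hsurj
  have hmax : IsLocalRing.maximalIdeal (X.presheaf.stalk x) =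
      (Ideal.span (Set.range a)).map (algebraMap Γ(X, V0) (X.presheaf.stalk x)) := by
    rw [← hg, Ideal.map_span, ← Set.range_comp]
    refine le_antisymm (Ideal.span_le.2 ?_) (Ideal.span_le.2 ?_)
    · rintro _ ⟨i, rfl⟩
      rw [← hgs i, IsLocalization.mk'_eq_mul_mk'_one]
      exact Ideal.mul_mem_right _ _ (Ideal.subset_span ⟨i, rfl⟩)
    · rintro _ ⟨i, rfl⟩
      show algebraMap _ _ (a i) ∈ _
      rw [← IsLocalization.mk'_spec (X.presheaf.stalk x) (a i) (s i), hgs i]
      exact Ideal.mul_mem_right _ _ (Ideal.subset_span ⟨i, rfl⟩)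
  have haP : Ideal.span (Set.range a) ≤ P := by
    rw [Ideal.span_le]
    rintro _ ⟨i, rfl⟩
    refine (IsLocalization.AtPrime.to_map_mem_maximal_iff (X.presheaf.stalk x) P (a i)).1 ?_
    rw [hmax]
    exact Ideal.mem_map_of_mem _ (Ideal.subset_span ⟨i, rfl⟩)
  obtain ⟨G, hG⟩ : P.FG := IsNoetherian.noetherian _
  have hclear : ∀ y ∈ G, ∃ t ∈ P.primeCompl, t * y ∈ Ideal.span (Set.range a) := fun y hy => by
    refine (IsLocalization.algebraMap_mem_map_algebraMap_iff P.primeCompl (X.presheaf.stalk x) _ y).1 ?_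
    rw [← hmax]
    exact (IsLocalization.AtPrime.to_map_mem_maximal_iff (X.presheaf.stalk x) P y).2 (hG ▸ Ideal.subset_span hy)
  choose! t ht htm using hclear
  let σ := ∏ y ∈ G, t y
  have hσP : σ ∈ P.primeCompl := prod_mem fun y hy => ht y hy
  have hxD : x ∈ X.basicOpen σ := by
    rw [X.mem_basicOpen σ x hx0]
    exact IsLocalization.map_units (X.presheaf.stalk x) (⟨σ, hσP⟩ : P.primeCompl)
  let V : X.affineOpens := ⟨X.basicOpen σ, hV0.basicOpen σ⟩
  let res := (X.presheaf.map (homOfLE (X.basicOpen_le σ)).op).hom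
  refine ⟨V, hxD, fun i => res (a i), ?_⟩
  have h1 : (C.ideal ⟨V0, hV0⟩).map res = C.ideal V := C.map_ideal_basicOpen ⟨V0, hV0⟩ σ
  rw [← h1, hCP, show Set.range (fun i => res (a i)) = res '' Set.range a from Set.range_comp res a,
    ← Ideal.map_span]
  refine le_antisymm ?_ (Ideal.map_mono haP)
  rw [← hG, Ideal.map_span, Ideal.span_le]
  rintro _ ⟨y, hy, rfl⟩
  have hu : IsUnit (res σ) := X.toRingedSpace.isUnit_res_basicOpen σ
  have h2 : σ * y ∈ Ideal.span (Set.range a) := by
    obtain ⟨c, hc⟩ : t y ∣ σ := Finset.dvd_prod_of_mem t hy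
    rw [hc, mul_assoc, mul_comm c, ← mul_assoc]
    exact Ideal.mul_mem_right _ _ (htm y hy)
  have h3 := Ideal.mem_map_of_mem res h2
  rw [map_mul] at h3
  exact (Ideal.unit_mul_mem_iff_mem _ hu).1 h3

/-- The affine model of a blow-up. -/
theorem isBlowUp_affine {X X' : Scheme.{u}} {π : X' ⟶ X} {C : X.IdealSheafData} (hb : BlowUp.IsBlowUp π C)
    {V : X.Opens} (hV : IsAffineOpen V) :
    BlowUp.IsBlowUp ((π ∣_ V) ≫ hV.isoSpec.hom) (C.comap hV.fromSpec) := by
  have h := BlowUpExist.isBlowUp_restrict hb V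
  refine ⟨?_, fun Z g hg => ?_⟩
  · rw [← Scheme.IdealSheafData.comap_comp, Category.assoc, IsAffineOpen.isoSpec_hom_fromSpec,
      Scheme.IdealSheafData.comap_comp]
    exact h.1
  · obtain ⟨k, hk, huniq⟩ := h.2 Z (g ≫ hV.isoSpec.inv) (by
      rw [← Scheme.IdealSheafData.comap_comp, Category.assoc, IsAffineOpen.isoSpec_inv_ι, Scheme.IdealSheafData.comap_comp]
      exact hg)
    refine ⟨k, ?_, fun k' hk' => huniq k' ?_⟩
    · beta_reduce at hk ⊢
      rw [← Category.assoc, hk, Category.assoc, Iso.inv_hom_id, Category.comp_id]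
    · beta_reduce at hk' ⊢
      rw [← hk']
      simp

theorem affine_ideal {X : Scheme.{u}} (C : X.IdealSheafData) (V : X.affineOpens) {n : ℕ} (a : Fin (n + 1) → Γ(X, V.1))
    (h : C.ideal V = Ideal.span (Set.range a)) :
    (C.comap V.2.fromSpec).ideal ⟨⊤, isAffineOpen_top _⟩ = Ideal.span (Set.range (PointBlowUp.gsec a)) := by
  rw [EffCartier.comap_ideal C V.2.fromSpec V ⟨⊤, isAffineOpen_top _⟩ (by rw [V.2.fromSpec_preimage_self]), h,
    Ideal.map_span, ← Set.range_comp]
  congr 2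
  funext i
  show V.2.fromSpec.appLE V.1 ⊤ _ (a i) = (Scheme.ΓSpecIso Γ(X, V.1)).inv (a i)
  rw [Scheme.Hom.appLE, V.2.fromSpec_app_self, Category.assoc, ← Functor.map_comp]
  rw [Subsingleton.elim (_ ≫ _) (𝟙 _), CategoryTheory.Functor.map_id, Category.comp_id]

/-- A surjection onto an algebraically closed field at a closed point. -/
theorem exists_point_retract {k : Type u} [Field k] [IsAlgClosed k] {X : Scheme.{u}} (p : X ⟶ Spec (CommRingCat.of k))
    [LocallyOfFiniteType p] {x : X} (hx : IsClosed ({x} : Set X)) (V : X.affineOpens) (hxV : x ∈ V.1) :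
    ∃ q : Γ(X, V.1) →+* k, Function.Surjective q ∧
      Set.range (Spec.map (CommRingCat.ofHom q)) = {V.2.primeIdealOf ⟨x, hxV⟩} ∧
      Spec.map (CommRingCat.ofHom q) ≫ V.2.fromSpec ≫ p = 𝟙 _ := by
  let ι : k →+* Γ(X, V.1) := ((Scheme.ΓSpecIso (CommRingCat.of k)).inv ≫ p.appLE ⊤ V.1 le_top).hom
  set P := (V.2.primeIdealOf ⟨x, hxV⟩).asIdeal with hP
  haveI : P.IsMaximal := by
    rw [hP, ← PrimeSpectrum.isClosed_singleton_iff_isMaximal]
    have he : ({V.2.primeIdealOf ⟨x, hxV⟩} : Set _) = V.2.fromSpec ⁻¹' {x} := by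
      ext Q
      rw [Set.mem_preimage, Set.mem_singleton_iff, Set.mem_singleton_iff]
      exact ⟨fun h => h ▸ V.2.fromSpec_primeIdealOf ⟨x, hxV⟩,
        fun h => V.2.fromSpec.isOpenEmbedding.injective (h.trans (V.2.fromSpec_primeIdealOf ⟨x, hxV⟩).symm)⟩
    exact he ▸ hx.preimage V.2.fromSpec.continuous
  letI : Field (Γ(X, V.1) ⧸ P) := Ideal.Quotient.field P
  letI : Algebra k Γ(X, V.1) := ι.toAlgebra
  haveI : Algebra.FiniteType k Γ(X, V.1) := by
    have h1 := p.finiteType_appLE (isAffineOpen_top (Spec (CommRingCat.of k))) V.2 le_top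
    exact h1.comp (RingHom.FiniteType.of_surjective _
      (ConcreteCategory.bijective_of_isIso (Scheme.ΓSpecIso (CommRingCat.of k)).inv).2)
  haveI : Module.Finite k (Γ(X, V.1) ⧸ P) := finite_of_finite_type_of_isJacobsonRing k _
  have hbij : Function.Bijective (algebraMap k (Γ(X, V.1) ⧸ P)) :=
    IsAlgClosed.algebraMap_bijective_of_isIntegral
  let e := RingEquiv.ofBijective _ hbij
  let q : Γ(X, V.1) →+* k := e.symm.toRingHom.comp (Ideal.Quotient.mk P)
  have hq : Function.Surjective q := e.symm.surjective.comp Ideal.Quotient.mk_surjective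
  have hqi : ∀ c, q (ι c) = c := fun c => e.injective (by
    show e (e.symm _) = _
    rw [e.apply_symm_apply]
    rfl)
  have hker : RingHom.ker q = P := by
    rw [RingHom.ker_comp_of_injective (Ideal.Quotient.mk P) e.symm.injective, Ideal.mk_ker]
  refine ⟨q, hq, ?_, ?_⟩
  · ext Q
    rw [Set.mem_singleton_iff]
    constructor
    · rintro ⟨z, rfl⟩
      refine PrimeSpectrum.ext ?_
      show z.asIdeal.comap q = P
      rw [show z.asIdeal = ⊥ from z.asIdeal.eq_bot_of_prime, ← RingHom.ker_eq_comap_bot, hker]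
    · rintro rfl
      exact ⟨(⟨⊥, Ideal.isPrime_bot⟩ : PrimeSpectrum k), PrimeSpectrum.ext (by show (⊥ : Ideal k).comap q = P; rw [← RingHom.ker_eq_comap_bot, hker])⟩
  · have h2 : V.2.fromSpec ≫ p = Spec.map (CommRingCat.ofHom ι) := by
      rw [← IsAffineOpen.SpecMap_appLE_fromSpec p (isAffineOpen_top _) V.2 le_top, IsAffineOpen.fromSpec_top]
      rw [show CommRingCat.ofHom ι = (Scheme.ΓSpecIso (CommRingCat.of k)).inv ≫ p.appLE ⊤ V.1 le_top from rfl, Spec.map_comp]
      congr 1
      exact Scheme.isoSpec_Spec_inv _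
    rw [h2, ← Spec.map_comp, ← Spec.map_id]
    congr 1
    ext c
    exact hqi c

/-- The maximal points of the exceptional set have dimension one less. -/
theorem exists_exc_point {X X' : Scheme.{u}} [IsLocallyNoetherian X'] [IsIntegral X'] {π : X' ⟶ X}
    {C : X.IdealSheafData} (hb : BlowUp.IsBlowUp π C) {δ' : X' → ℤ} (hd : Cyc.IsDimFun X' δ') {x : X}
    (hC : (C.support : Set X) = {x}) (hne : ∃ w, π w = x) :
    ∃ e : X', π e = x ∧ δ' e + 1 = δ' (genericPoint X') := by
  have hsupp : ((C.comap π).support : Set X') = π ⁻¹' {x} := by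
    rw [Scheme.IdealSheafData.support_comap, ← hC]
    rfl
  obtain ⟨w, hw⟩ := hne
  obtain ⟨w0, hw0⟩ : w ∈ Set.range (C.comap π).subschemeι := by
    rw [Scheme.IdealSheafData.range_subschemeι, hsupp]
    exact hw
  obtain ⟨ζ, hζ, -⟩ := BlowUpFib6.exists_maximal_generization w0
  have hmem : (C.comap π).subschemeι ζ ∈ ((C.comap π).support : Set X') :=
    (Scheme.IdealSheafData.range_subschemeι _).le ⟨ζ, rfl⟩
  refine ⟨(C.comap π).subschemeι ζ, by rw [hsupp] at hmem; exact hmem, ?_⟩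
  have h1 := SecDiv.ringKrullDim_generic hb.1 hmem (fun y hy hyz => by
    rw [← Scheme.IdealSheafData.range_subschemeι] at hy
    obtain ⟨y0, rfl⟩ := hy
    rw [hζ y0 ((C.comap π).subschemeι.isEmbedding.isInducing.specializes_iff.1 hyz)])
  rw [Cyc26.ringKrullDim_stalk hd] at h1
  have h2 : (δ' (genericPoint X') - δ' ((C.comap π).subschemeι ζ)).toNat = 1 := by exact_mod_cast h1
  omega

theorem deltaCompat_unique {A B : Scheme.{u}} {f : A ⟶ B} {δ₁ δ₂ : A → ℤ} {δB : B → ℤ}
    (h₁ : Cyc.DeltaCompat f δ₁ δB) (h₂ : Cyc.DeltaCompat f δ₂ δB) (a : A) : δ₁ a = δ₂ a := by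
  obtain ⟨m, hm, hm'⟩ := h₁ a
  obtain ⟨l, hl, hl'⟩ := h₂ a
  have : (m : Cardinal) = l := hm.symm.trans hl
  have : m = l := by exact_mod_cast this
  omega

end Groth.Agent.BlowZero26
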