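import Groth.Agent.Lib.Cyc26.ChernFun
import Groth.Agent.Lib.Cyc26.ClosedSetup
import Groth.Agent.Lib.Cyc26.DivFun
import Groth.Agent.Lib.Cyc26.Closure
import Groth.Agent.Lib.Cyc26.PnLinear
import Groth.Agent.Lib.Cyc26.PnProd
import Groth.Agent.Lib.Bivar12.BiratCrit

/-! # Cycles across a morphism which is an isomorphism over an open -/

set_option autoImplicit false
set_option linter.style.haveILetI false
set_option backward.isDefEq.respectTransparency false
set_option backward.isDefEq.respectTransparency.types false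
set_option maxHeartbeats 1600000

universe u

open CategoryTheory CategoryTheory.Limits AlgebraicGeometry TopologicalSpace

noncomputable section

namespace Groth.Agent.BlowZero26

open Groth.Agent.Cyc26 Groth.Agent.Cyc26A Groth.Agent.Cyc26Pn
open scoped Classical

section iso

variable {X X' : Scheme.{u}} (π : X' ⟶ X) (U : X.Opens) [IsIso (π ∣_ U)]

theorem restrict_apply (v : (π ⁻¹ᵁ U : X'.Opens)) : π ((π ⁻¹ᵁ U).ι v) = U.ι ((π ∣_ U) v) :=
  (congrArg (fun g => g v) (congrArg (fun t => t.base) (morphismRestrict_ι π U))).symm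

theorem exists_over {y : X} (hy : y ∈ U) : ∃ w, π w = y := by
  obtain ⟨v, hv⟩ := (ConcreteCategory.bijective_of_isIso (π ∣_ U).base).2 ⟨y, hy⟩
  exact ⟨(π ⁻¹ᵁ U).ι v, (restrict_apply π U v).trans (congrArg U.ι hv)⟩

theorem inj_over {a b : X'} (ha : π a ∈ U) (h : π a = π b) : a = b := by
  have hb : π b ∈ U := h ▸ ha
  have e : (π ∣_ U) (⟨a, ha⟩ : (π ⁻¹ᵁ U : X'.Opens)) = (π ∣_ U) ⟨b, hb⟩ :=
    U.ι.isOpenEmbedding.injective
      ((restrict_apply π U ⟨a, ha⟩).symm.trans (h.trans (restrict_apply π U ⟨b, hb⟩)))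
  exact congrArg Subtype.val ((ConcreteCategory.bijective_of_isIso (π ∣_ U).base).1 e)

theorem stalkMap_bijective {w : X'} (hw : π w ∈ U) : Function.Bijective (π.stalkMap w) := by
  haveI : IsIso (π.stalkMap w) :=
    (MorphismProperty.arrow_mk_iso_iff (MorphismProperty.isomorphisms _)
      (morphismRestrictStalkMap π U ⟨w, hw⟩)).mp (inferInstanceAs (IsIso _))
  exact ConcreteCategory.bijective_of_isIso _

theorem residueDegree_over {w : X'} (hw : π w ∈ U) : π.residueDegree w = 1 :=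
  Bivar12.residueDegree_eq_one_of_surjective π w (stalkMap_bijective π U hw).2

variable {δ : X → ℤ} {δ' : X' → ℤ}

include U in
theorem delta_over (hπ : Cyc.DeltaCompat π δ' δ) {w : X'} (hw : π w ∈ U) : δ' w = δ (π w) := by
  obtain ⟨n, hn, hn'⟩ := hπ w
  letI := (π.residueFieldMap w).hom.toAlgebra
  have hsurj : Function.Surjective (π.residueFieldMap w) := by
    intro b
    obtain ⟨b, rfl⟩ := Scheme.residue_surjective X' w b
    obtain ⟨a, rfl⟩ := (stalkMap_bijective π U hw).2 b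
    exact ⟨X.residue _ a, ConcreteCategory.congr_hom (Scheme.residue_residueFieldMap π w) a⟩
  haveI : Algebra.IsAlgebraic (X.residueField (π w)) (X'.residueField w) := ⟨fun b => by
    obtain ⟨a, rfl⟩ := hsurj b
    exact isAlgebraic_algebraMap a⟩
  have h0 : (n : Cardinal) = 0 := hn.symm.trans trdeg_eq_zero
  have : n = 0 := by exact_mod_cast h0
  omega

theorem divFun_over (hπ : Cyc.DeltaCompat π δ' δ) {ξ w : X'} (hξ : π ξ ∈ U) (hw : π w ∈ U)
    (f : X.residueField (π ξ)) :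
    Cyc.divFun δ' ξ (π.residueFieldMap ξ f) w = Cyc.divFun δ (π ξ) f (π w) := by
  let j : (π ⁻¹ᵁ U).toScheme ⟶ X' := (π ⁻¹ᵁ U).ι
  haveI : IsOpenImmersion (j ≫ π) := by rw [← morphismRestrict_ι π U]; infer_instance
  have hd : (fun v : (π ⁻¹ᵁ U).toScheme => δ' (j v)) = fun v => δ ((j ≫ π) v) :=
    funext fun v => delta_over π U hπ v.2
  let a : (π ⁻¹ᵁ U).toScheme := ⟨ξ, hξ⟩
  let b : (π ⁻¹ᵁ U).toScheme := ⟨w, hw⟩
  have h1 := Cyc26.divFun_preimmersion j δ' a b (π.residueFieldMap ξ f)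
  have h2 := Cyc26.divFun_preimmersion (j ≫ π) δ a b f
  rw [Scheme.residueFieldMap_comp] at h2
  rw [hd] at h1
  exact h1.symm.trans h2

theorem exists_lift_fun (hπ : Cyc.DeltaCompat π δ' δ) (ξ : X) (hξ : ξ ∈ U) (f : X.residueField ξ) (hf : f ≠ 0) :
    ∃ (ξ' : X') (f' : X'.residueField ξ'), π ξ' = ξ ∧ f' ≠ 0 ∧ δ' ξ' = δ ξ ∧
      ∀ w, π w ∈ U → Cyc.divFun δ' ξ' f' w = Cyc.divFun δ ξ f (π w) := by
  obtain ⟨ξ', rfl⟩ := exists_over π U hξ
  exact ⟨ξ', π.residueFieldMap ξ' f, rfl, (map_ne_zero (π.residueFieldMap ξ').hom).2 hf,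
    delta_over π U hπ hξ, fun w hw => divFun_over π U hπ hξ hw f⟩

theorem map_apply_over [QuasiCompact π] (hπ : Cyc.DeltaCompat π δ' δ) (z : AlgebraicCycle X' ℤ) {w : X'}
    (hw : π w ∈ U) : AlgebraicCycle.map π δ' δ z (π w) = z w := by
  rw [Cyc26.map_apply_eq_sum π δ' δ z (π w) {w} (fun v hv => by rw [Finset.mem_singleton.1 hv])
    fun v hv _ _ => Finset.mem_singleton.2 (inj_over π U (hv ▸ hw) hv), Finset.sum_singleton,
    AlgebraicCycle.mapCoeff, if_pos (delta_over π U hπ hw), residueDegree_over π U hw, Nat.cast_one, mul_one]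

/-- Lift a cycle supported in the open. -/
theorem exists_lift_cycle [QuasiCompact π] (hπ : Cyc.DeltaCompat π δ' δ) (α : AlgebraicCycle X ℤ)
    (hsupp : ∀ y, α y ≠ 0 → y ∈ U) (hα : α ∈ Cyc.Zk X δ 0) :
    ∃ z : AlgebraicCycle X' ℤ, z ∈ Cyc.Zk X' δ' 0 ∧ ∀ y, AlgebraicCycle.map π δ' δ z y = α y := by
  let F : X' → ℤ := fun w => α (π w)
  have hF : ∀ w, F w ≠ 0 → π w ∈ U := fun w h => hsupp _ h
  let z : AlgebraicCycle X' ℤ := ⟨F, Set.subset_univ _, fun w _ => by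
    obtain ⟨t, ht, hfin⟩ := α.supportLocallyFiniteWithinDomain' (π w) trivial
    refine ⟨π ⁻¹' t, π.continuous.continuousAt.preimage_mem_nhds ht, ?_⟩
    refine Set.Finite.of_finite_image (hfin.subset ?_) fun a ha b _ hab => inj_over π U (hF a ha.2) hab
    rintro _ ⟨v, ⟨hv1, hv2⟩, rfl⟩
    exact ⟨hv1, hv2⟩⟩
  refine ⟨z, fun w hw => ?_, fun y => ?_⟩
  · by_contra h
    exact h (hα _ (delta_over π U hπ (hF w h) ▸ hw))
  · by_cases hy : y ∈ U
    · obtain ⟨w, rfl⟩ := exists_over π U hy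
      exact map_apply_over π U hπ z hy
    · rw [Cyc26.map_apply_eq_sum π δ' δ z y ∅ (fun v hv => absurd hv (by simp))
        fun v hv hne _ => absurd (hv ▸ hF v hne) hy, Finset.sum_empty]
      exact (not_not.1 fun h => hy (hsupp y h)).symm

/-- Lift a rational equivalence of points away from the complement of the open. -/
theorem exists_lift_rat [IsLocallyNoetherian X'] (hd' : Cyc.IsDimFun X' δ') [QuasiCompact π]
    (hπ : Cyc.DeltaCompat π δ' δ) (hU : ∀ y, δ y = 1 → y ∈ U) (z : AlgebraicCycle X' ℤ)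
    (h : Cyc.RatEquivZero δ 0 (AlgebraicCycle.map π δ' δ z)) :
    ∃ D : AlgebraicCycle X' ℤ, D ∈ Cyc.Zk X' δ' 0 ∧ Cyc.RatEquivZero δ' 0 D ∧ ∀ w, π w ∈ U → D w = z w := by
  obtain ⟨ι, ξ, f, hξ, hf, hlf, hsum⟩ := h
  choose ξ' f' h1 h2 h3 h4 using fun i => exists_lift_fun π U hπ (ξ i) (hU _ (by rw [hξ]; norm_num)) (f i) (hf i)
  have hlf' : ∀ w : X', ∃ V : Set X', IsOpen V ∧ w ∈ V ∧ {i | (closure {ξ' i} ∩ V).Nonempty}.Finite := by
    intro w
    obtain ⟨V, hV, hwV, hfin⟩ := hlf (π w)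
    refine ⟨π ⁻¹' V, hV.preimage π.continuous, hwV, hfin.subset ?_⟩
    rintro i ⟨y, hy, hyV⟩
    refine ⟨π y, ?_, hyV⟩
    have := map_mem_closure π.continuous hy (t := {ξ i}) (fun a ha => by
      rw [Set.mem_singleton_iff] at ha ⊢; rw [ha, h1])
    exact this
  obtain ⟨D, hD⟩ := Cyc26.exists_cycle_sum_divFun hd' ξ' f' hlf'
  refine ⟨D, fun w hw => ?_, ⟨ι, ξ', f', fun i => (h3 i).trans (hξ i), h2, hlf', hD⟩, fun w hw => ?_⟩
  · rw [hD]
    refine finsum_eq_zero_of_forall_eq_zero fun i => ?_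
    have h5 := hξ i
    have h6 := h3 i
    exact dif_neg fun hc => hw (by have := hc.2; omega)
  · rw [← map_apply_over π U hπ z hw, hsum, hD]
    exact finsum_congr fun i => h4 i w hw

end iso

/-- Zero-cycles supported on an embedded projective space are determined by their degree. -/
theorem mk_eq_zero_of_projSpace {k : Type u} [Field k] [IsAlgClosed k] [CharZero k] {Y : Scheme.{u}}
    {p : Y ⟶ Spec (CommRingCat.of k)} [IsLocallyNoetherian Y] [IsProper p] {δ : Y → ℤ} (hY : Cyc.IsSetup Y δ)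
    (hδ : Cyc.DeltaCompat p δ (fun _ => 0)) {n : ℕ} (φ : CohB1.ProjSpace n k ⟶ Y) [IsClosedImmersion φ]
    (hφ : φ ≫ p = CohB1.ProjSpace.toSpec n k) (c : AlgebraicCycle Y ℤ) (hc : c ∈ Cyc.Zk Y δ 0)
    (hsupp : ∀ y, c y ≠ 0 → y ∈ Set.range φ) (hdeg : degA p hY.2.2 hδ (mk δ c) = 0) : mk δ c = 0 := by
  let δP : CohB1.ProjSpace n k → ℤ := fun v => δ (φ v)
  have hφδ : Cyc.DeltaCompat φ δP δ := Cyc26.deltaCompat_closed φ δ
  have hδP : Cyc.DeltaCompat (CohB1.ProjSpace.toSpec n k) δP (fun _ => 0) := by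
    have h := deltaCompat_comp φ p hφδ hδ
    rwa [hφ] at h
  have hP := Cyc26Pn.isSetup_Pn hδP
  let cP : AlgebraicCycle (CohB1.ProjSpace n k) ℤ := ⟨fun v => c (φ v), Set.subset_univ _, fun v _ => by
    obtain ⟨t, ht, hfin⟩ := c.supportLocallyFiniteWithinDomain' (φ v) trivial
    refine ⟨φ ⁻¹' t, φ.continuous.continuousAt.preimage_mem_nhds ht, ?_⟩
    refine Set.Finite.of_finite_image (hfin.subset ?_) (φ.isClosedEmbedding.injective.injOn)
    rintro _ ⟨a, ⟨ha1, ha2⟩, rfl⟩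
    exact ⟨ha1, ha2⟩⟩
  have hmap : AlgebraicCycle.map φ δP δ cP = c := by
    ext y
    by_cases hy : y ∈ Set.range φ
    · obtain ⟨v, rfl⟩ := hy
      rw [Cyc26.map_apply_eq_sum φ δP δ cP (φ v) {v} (fun a ha => by rw [Finset.mem_singleton.1 ha])
        fun a ha _ _ => Finset.mem_singleton.2 (φ.isClosedEmbedding.injective ha), Finset.sum_singleton,
        AlgebraicCycle.mapCoeff, if_pos rfl,
        Bivar12.residueDegree_eq_one_of_surjective φ v (φ.stalkMap_surjective v), Nat.cast_one, mul_one]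
      rfl
    · rw [Cyc26.map_apply_eq_sum φ δP δ cP y ∅ (fun a ha => absurd ha (by simp))
        fun a ha _ _ => absurd ⟨a, ha⟩ hy, Finset.sum_empty]
      exact (not_not.1 fun h => hy (hsupp y h)).symm
  have hpush : push φ hP.2.2 hY.2.2 hφδ (mk δP cP) = mk δ c := by rw [push_mk, hmap]
  have hcP : cP ∈ Cyc.Zk (CohB1.ProjSpace n k) δP ((0 : ℕ) : ℤ) := fun v hv => hc _ (by exact_mod_cast hv)
  have h0 := Cyc26Pn.mk_eq_deg_smul hδP (Nat.zero_le n) cP hcP
  rw [show c1p hP.2.2 (Cyc26Pn.isInvertible_one n k) 0 (mk δP cP) = mk δP cP from rfl] at h0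
  rw [← Cyc26Pn.degA_push hP hY φ p hφ hφδ hδ hδP, hpush, hdeg, zero_zsmul] at h0
  rw [← hpush, h0, map_zero]

end Groth.Agent.BlowZero26
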