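import Groth.Agent.Lib.BlowZero26.Basic
import Groth.Agent.Lib.BlowZero26.Lift
import Groth.Agent.Lib.MoveZero26.Main
import Groth.Agent.Lib.ProjSpace.BaseChange
import Groth.Agent.Lib.QuotProj11.Proper
import Groth.Agent.Lib.BlowUpReg6.Main

/-! # Zero-cycles on the blow-up of a point -/

set_option autoImplicit false
set_option linter.style.haveILetI false
set_option backward.isDefEq.respectTransparency false
set_option backward.isDefEq.respectTransparency.types false
set_option maxHeartbeats 1600000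

universe u

open CategoryTheory CategoryTheory.Limits AlgebraicGeometry TopologicalSpace

noncomputable section

namespace Groth.Agent.BlowZero26

open Groth.Agent.Cyc26 Groth.Agent.Cyc26A Groth.Agent.Cyc26Pn
open scoped Classical

variable {k : Type u} [Field k] [IsAlgClosed k] [CharZero k] {X X' : Scheme.{u}}
  {p : X ⟶ Spec (CommRingCat.of k)} [IsIntegral X] [Smooth p] [IsLocallyNoetherian X] {π : X' ⟶ X}

theorem subsingleton_krull {T : Type u} [TopologicalSpace T] [Subsingleton T] : topologicalKrullDim T ≤ 0 := by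
  haveI : Subsingleton (IrreducibleCloseds T) := ⟨fun a b => by
    obtain ⟨s, hs⟩ := a.2.1
    obtain ⟨t, ht⟩ := b.2.1
    refine IrreducibleCloseds.ext (Set.ext fun z => ?_)
    rw [Subsingleton.elim z s]
    exact ⟨fun _ => Subsingleton.elim t s ▸ ht, fun _ => hs⟩⟩
  exact Order.krullDim_nonpos_of_subsingleton

theorem delta_closed [LocallyOfFiniteType p] {δ : X → ℤ} (hδ : Cyc.DeltaCompat p δ (fun _ => 0)) {x : X}
    (hx : IsClosed ({x} : Set X)) : δ x = 0 := by
  obtain ⟨V, hV, hxV, -⟩ := exists_isAffineOpen_mem_and_subset (show x ∈ (⊤ : X.Opens) from trivial)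
  obtain ⟨q, hq, hqr, hqs⟩ := exists_point_retract p hx ⟨V, hV⟩ hxV
  haveI : IsClosedImmersion (Spec.map (CommRingCat.ofHom q)) := IsClosedImmersion.spec_of_surjective _ hq
  let g := Spec.map (CommRingCat.ofHom q) ≫ hV.fromSpec
  obtain ⟨δg, hg⟩ := P1S26.exists_deltaCompat g δ
  have h1 := deltaCompat_comp g p hg hδ
  rw [Category.assoc, hqs] at h1
  have h2 : Cyc.DeltaCompat (𝟙 (Spec (CommRingCat.of k))) (fun _ => (0 : ℤ)) (fun _ => 0) :=
    Cyc26.deltaCompat_closed (𝟙 (Spec (CommRingCat.of k))) (fun _ => (0 : ℤ))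
  obtain ⟨t, ht⟩ := (hqr ▸ Set.mem_singleton (hV.primeIdealOf ⟨x, hxV⟩) :
    hV.primeIdealOf ⟨x, hxV⟩ ∈ Set.range (Spec.map (CommRingCat.ofHom q)))
  have h3 := deltaCompat_unique h1 h2 t
  have hgt : g t = x := (congrArg hV.fromSpec ht).trans (hV.fromSpec_primeIdealOf ⟨x, hxV⟩)
  obtain ⟨m, -, hm⟩ := hg t
  obtain ⟨l, -, hl⟩ := hδ x
  rw [hgt] at hm
  simp only at hl h3
  omega

theorem exists_exceptional (x : X) (hx : IsClosed ({x} : Set X)) {δ : X → ℤ}
    (hδ : Cyc.DeltaCompat p δ (fun _ => 0)) (hx0 : δ x = 0) (hηx : genericPoint X ≠ x)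
    [IsProper p] [IsProper π] [IsIntegral X'] [IsLocallyNoetherian X']
    (hb : BlowUp.IsBlowUp π (Scheme.IdealSheafData.vanishingIdeal (⟨{x}, hx⟩ : Closeds X)))
    {δ' : X' → ℤ} (hδ' : Cyc.DeltaCompat (π ≫ p) δ' (fun _ => 0)) (hgen : δ' (genericPoint X') = δ (genericPoint X))
    (hne : ∃ w, π w = x) :
    ∃ (n : ℕ) (φ : CohB1.ProjSpace n k ⟶ X'), IsClosedImmersion φ ∧
      φ ≫ π ≫ p = CohB1.ProjSpace.toSpec n k ∧ π ⁻¹' {x} ⊆ Set.range φ := by
  have hXs : Cyc.IsSetup X δ := Cyc26Split.isSetup_of_lft p IntMult26.isSetup_field hδ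
  have hXs' : Cyc.IsSetup X' δ' := Cyc26Split.isSetup_of_lft (π ≫ p) IntMult26.isSetup_field hδ'
  set C := Scheme.IdealSheafData.vanishingIdeal (⟨{x}, hx⟩ : Closeds X) with hCdef
  haveI := SmoothReg17.isRegularLocalRing_stalk p x
  have hpos : δ x < δ (genericPoint X) := (hXs.2.2 _ _ (genericPoint_specializes x) hηx).1
  have hspan : ((IsLocalRing.maximalIdeal (X.presheaf.stalk x)).spanFinrank : ℤ) = δ (genericPoint X) := by
    have h1 := IsRegularLocalRing.spanFinrank_maximalIdeal (R := X.presheaf.stalk x)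
    rw [Cyc26.ringKrullDim_stalk hXs.2.2] at h1
    have h2 : (IsLocalRing.maximalIdeal (X.presheaf.stalk x)).spanFinrank =
        (δ (genericPoint X) - δ x).toNat := by exact_mod_cast h1
    omega
  obtain ⟨n, hn⟩ : ∃ n, (IsLocalRing.maximalIdeal (X.presheaf.stalk x)).spanFinrank = n + 1 :=
    ⟨(IsLocalRing.maximalIdeal (X.presheaf.stalk x)).spanFinrank - 1, by omega⟩
  obtain ⟨V, hxV, a, ha⟩ := exists_chart hx hn
  let b := (π ∣_ V.1) ≫ V.2.isoSpec.hom
  obtain ⟨r, hrc, hr, -⟩ := PointBlowUp.exists_closedImmersion (A := Γ(X, V.1)) a (b := b)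
    (affine_ideal C V a ha) (isBlowUp_affine hb V.2)
  haveI := hrc
  obtain ⟨q, hq, hqr, hqs⟩ := exists_point_retract p hx V hxV
  haveI : IsClosedImmersion (Spec.map (CommRingCat.ofHom q)) := IsClosedImmersion.spec_of_surjective _ hq
  have hmap := ProjSpace.isPullback_map n q
  haveI : IsClosedImmersion (ProjSpace.map n q) :=
    MorphismProperty.of_isPullback (P := @IsClosedImmersion) hmap.flip inferInstance
  have sq := IsPullback.of_hasPullback r (ProjSpace.map n q)
  have big : IsPullback (pullback.fst r (ProjSpace.map n q))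
      (pullback.snd r (ProjSpace.map n q) ≫ CohB1.ProjSpace.toSpec n k) b (Spec.map (CommRingCat.ofHom q)) :=
    hr ▸ sq.paste_vert hmap
  let j : pullback r (ProjSpace.map n q) ⟶ X' := pullback.fst r (ProjSpace.map n q) ≫ (π ⁻¹ᵁ V.1).ι
  have hj : j ≫ π ≫ p = pullback.snd r (ProjSpace.map n q) ≫ CohB1.ProjSpace.toSpec n k := by
    have h1 : (π ⁻¹ᵁ V.1).ι ≫ π = b ≫ V.2.fromSpec := by
      rw [Category.assoc, IsAffineOpen.isoSpec_hom_fromSpec, morphismRestrict_ι]
    rw [Category.assoc, reassoc_of% h1, big.w_assoc, Category.assoc, hqs, Category.comp_id]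
  have hrange : π ⁻¹' {x} ⊆ Set.range j := by
    intro w hw
    rw [Set.mem_preimage, Set.mem_singleton_iff] at hw
    have hwV : w ∈ π ⁻¹ᵁ V.1 := by
      show π w ∈ V.1
      rw [hw]; exact hxV
    let v : (π ⁻¹ᵁ V.1).toScheme := ⟨w, hwV⟩
    have hb' : b v = V.2.primeIdealOf ⟨x, hxV⟩ := by
      apply V.2.fromSpec.isOpenEmbedding.injective
      rw [V.2.fromSpec_primeIdealOf, ← Scheme.Hom.comp_apply, Category.assoc, IsAffineOpen.isoSpec_hom_fromSpec,
        morphismRestrict_ι, Scheme.Hom.comp_apply]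
      exact hw
    obtain ⟨t, ht⟩ := (hqr ▸ (Set.mem_singleton (V.2.primeIdealOf ⟨x, hxV⟩)) :
      V.2.primeIdealOf ⟨x, hxV⟩ ∈ Set.range (Spec.map (CommRingCat.ofHom q)))
    obtain ⟨z, hz, -⟩ := Scheme.exists_preimage_of_isPullback big v t (hb'.trans ht.symm)
    refine ⟨z, ?_⟩
    show (π ⁻¹ᵁ V.1).ι (pullback.fst r (ProjSpace.map n q) z) = w
    rw [hz]
    rfl
  obtain ⟨e, hex, hed⟩ := exists_exc_point hb hXs'.2.2
    (Scheme.IdealSheafData.coe_support_vanishingIdeal ⟨{x}, hx⟩) hne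
  obtain ⟨e0, he0⟩ := hrange (show e ∈ π ⁻¹' {x} from hex)
  have hjd : Cyc.DeltaCompat j (fun v => δ' (j v)) δ' := by
    intro v
    refine ⟨0, ?_, by simp⟩
    letI := (j.residueFieldMap v).hom.toAlgebra
    haveI : Algebra.IsAlgebraic (X'.residueField (j v)) ((pullback r (ProjSpace.map n q)).residueField v) := ⟨fun c => by
      obtain ⟨c, rfl⟩ := Scheme.residue_surjective _ v c
      obtain ⟨c, rfl⟩ := j.stalkMap_surjective v c
      rw [show (Scheme.residue _ v) (j.stalkMap v c) = algebraMap _ _ (X'.residue (j v) c) from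
        (ConcreteCategory.congr_hom (Scheme.residue_residueFieldMap j v) c).symm]
      exact isAlgebraic_algebraMap _⟩
    rw [trdeg_eq_zero]
    simp
  have hsd : Cyc.DeltaCompat (pullback.snd r (ProjSpace.map n q))
      (fun v => dPn k n (pullback.snd r (ProjSpace.map n q) v)) (dPn k n) := Cyc26.deltaCompat_closed _ _
  have h1 := deltaCompat_comp j (π ≫ p) hjd hδ'
  have h2 := deltaCompat_comp (pullback.snd r (ProjSpace.map n q)) (CohB1.ProjSpace.toSpec n k) hsd (dPn_spec n)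
  rw [hj] at h1
  have he1 : dPn k n (pullback.snd r (ProjSpace.map n q) e0) = n := by
    rw [← deltaCompat_unique h1 h2 e0]
    show δ' (j e0) = n
    rw [he0]
    omega
  have htop := eq_generic_of_top n _ he1
  haveI : Surjective (pullback.snd r (ProjSpace.map n q)) := by
    refine ⟨fun y => ?_⟩
    exact (genericPoint_specializes y).mem_closed
      (pullback.snd r (ProjSpace.map n q)).isClosedEmbedding.isClosed_range ⟨e0, htop⟩
  haveI := isIso_of_isClosedImmersion_of_surjective (pullback.snd r (ProjSpace.map n q))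
  let φ := inv (pullback.snd r (ProjSpace.map n q)) ≫ j
  have hφ : φ ≫ π ≫ p = CohB1.ProjSpace.toSpec n k := by
    rw [Category.assoc, hj, IsIso.inv_hom_id_assoc]
  haveI : IsProper (φ ≫ π ≫ p) := by rw [hφ]; infer_instance
  haveI : IsProper φ := IsProper.of_comp φ (π ≫ p)
  haveI : IsClosedImmersion φ := IsClosedImmersion.of_isPreimmersion φ φ.isClosedMap.isClosed_range
  refine ⟨n, φ, inferInstance, hφ, fun w hw => ?_⟩
  obtain ⟨z, hz⟩ := hrange hw
  refine ⟨pullback.snd r (ProjSpace.map n q) z, ?_⟩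
  rw [← Scheme.Hom.comp_apply, ← hz]
  congr 1
  simp [φ]

/-- Push-forward on zero-cycle classes is bijective for the blow-up of a point. -/
theorem bijective (hX : RelProj.IsHProjective p) (hdim : 1 ≤ topologicalKrullDim X) (x : X)
    (hx : IsClosed ({x} : Set X)) [QuasiCompact π]
    (hb : BlowUp.IsBlowUp π (Scheme.IdealSheafData.vanishingIdeal (⟨{x}, hx⟩ : Closeds X)))
    (δ : X → ℤ) (hδ : Cyc.DeltaCompat p δ (fun _ => 0))
    (δ' : X' → ℤ) (hδ' : Cyc.DeltaCompat (π ≫ p) δ' (fun _ => 0)) :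
    (∀ z : AlgebraicCycle X' ℤ, z ∈ Cyc.Zk X' δ' 0 →
        Cyc.RatEquivZero δ 0 (AlgebraicCycle.map π δ' δ z) → Cyc.RatEquivZero δ' 0 z) ∧
      ∀ α : AlgebraicCycle X ℤ, α ∈ Cyc.Zk X δ 0 →
        ∃ z : AlgebraicCycle X' ℤ, z ∈ Cyc.Zk X' δ' 0 ∧ Cyc.RatEquiv δ 0 (AlgebraicCycle.map π δ' δ z) α := by
  haveI : IsProper p := QuotProj11.isProper_of_isHProjective hX
  haveI : IsProper π := BlowUpExist.isProper (BlowUpReg6.isFiniteTypeIdeal _) hb
  haveI : IsLocallyNoetherian X' := LocallyOfFiniteType.isLocallyNoetherian π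
  have hXs : Cyc.IsSetup X δ := Cyc26Split.isSetup_of_lft p IntMult26.isSetup_field hδ
  have hXs' : Cyc.IsSetup X' δ' := Cyc26Split.isSetup_of_lft (π ≫ p) IntMult26.isSetup_field hδ'
  have hπ : Cyc.DeltaCompat π δ' δ := deltaCompat_of_comp π p rfl hδ' hδ
  set C := Scheme.IdealSheafData.vanishingIdeal (⟨{x}, hx⟩ : Closeds X) with hCdef
  have hsupp : (C.support : Set X) = {x} := Scheme.IdealSheafData.coe_support_vanishingIdeal _
  let U := EffCartier.cmpl C
  haveI : IsIso (π ∣_ U) := EffCartier.isIso_blowUp_restrict hb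
  have hmemU : ∀ y, y ∈ U ↔ y ≠ x := fun y => by
    show y ∉ (C.support : Set X) ↔ _
    rw [hsupp, Set.mem_singleton_iff]
  have hηx : genericPoint X ≠ x := fun e => by
    haveI : Subsingleton X := ⟨fun a c => by
      have h : ∀ y : X, y = x := fun y => (genericPoint_specializes y).mem_closed hx (Set.mem_singleton_iff.2 e)
      rw [h a, h c]⟩
    exact absurd (hdim.trans subsingleton_krull) (by decide)
  obtain ⟨w0, hw0⟩ := exists_over π U ((hmemU _).2 hηx)
  haveI : Nonempty X' := ⟨w0⟩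
  obtain ⟨hX', hgen, -⟩ := BlowUpFib6.isIntegral_of_isBlowUp hb
  haveI := hX'
  have hgen' : δ' (genericPoint X') = δ (genericPoint X) := by
    rw [delta_over π U hπ (by rw [hgen]; exact (hmemU _).2 hηx), hgen]
  have hne : ∃ w, π w = x := (genericPoint_specializes x).mem_closed π.isClosedMap.isClosed_range ⟨_, hgen⟩
  have hx0 : δ x = 0 := by
    exact delta_closed hδ hx
  obtain ⟨n, φ, hφc, hφ, hφr⟩ := exists_exceptional x hx hδ hx0 hηx hb hδ' hgen' hne
  haveI := hφc
  constructor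
  · intro z hz hrat
    obtain ⟨D, hD0, hDrat, hDeq⟩ := exists_lift_rat π U hXs'.2.2 hπ
      (fun y hy => (hmemU y).2 fun e => by rw [e, hx0] at hy; omega) z hrat
    refine ratEquivZero_of_mk hz ?_
    have hDz : mk δ' D = 0 := mk_eq_zero_of_ratEquivZero hDrat
    have hdeg : degA (π ≫ p) hXs'.2.2 hδ' (mk δ' (z - D)) = 0 := by
      rw [_root_.map_sub, hDz, sub_zero, ← Cyc26Pn.degA_push hXs' hXs π p rfl hπ hδ hδ', push_mk,
        mk_eq_zero_of_ratEquivZero hrat, map_zero]
    have h := mk_eq_zero_of_projSpace hXs' hδ' φ hφ (z - D)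
      (fun w hw => by show z w - D w = 0; rw [hz w hw, hD0 w hw, sub_zero])
      (fun w hw => hφr (not_not.1 fun hc => hw (by
        show z w - D w = 0
        rw [hDeq w ((hmemU _).2 hc), sub_self]))) hdeg
    rwa [_root_.map_sub, hDz, sub_zero] at h
  · intro α hα
    obtain ⟨α', hα', hsuppU, heq⟩ := MoveZero26.exists_move hX hδ U ⟨_, (hmemU _).2 hηx⟩ α hα
    obtain ⟨z, hz, hmap⟩ := exists_lift_cycle π U hπ α' hsuppU hα'
    refine ⟨z, hz, ?_⟩
    refine ratEquiv_of_mk (fun y hy => by rw [hmap]; exact hα' y hy) hα ?_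
    rw [show AlgebraicCycle.map π δ' δ z = α' from DFunLike.ext _ _ hmap]
    exact (mk_eq_of_ratEquiv heq).symm

end Groth.Agent.BlowZero26
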